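import Cfsg.Agent.Lib.InvChar.SporData.HN.K8.Data
import Cfsg.Agent.Lib.InvChar.SporData.HN.Orbits

set_option autoImplicit false
set_option maxRecDepth 100000

namespace CfsgLib.InvChar.SporHN

open CfsgLib.InvChar.Coset

theorem kChk8_2 : kList8.chkElems ⟨1408, 3, derPerm8⟩ (pack4 0 904 829 621) 6000 12000 = true := by decide +kernel

end CfsgLib.InvChar.SporHN
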