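import Cfsg.Agent.Lib.InvChar.SporData.HN.K8.F0
import Cfsg.Agent.Lib.InvChar.SporData.HN.K8.F1
import Cfsg.Agent.Lib.InvChar.SporData.HN.K8.F2
import Cfsg.Agent.Lib.InvChar.SporData.HN.K8.F3
import Cfsg.Agent.Lib.InvChar.SporData.HN.K8.F4
import Cfsg.Agent.Lib.InvChar.SporData.HN.K8.F5

/-! The listing of orbit 8 is checked. -/

set_option autoImplicit false
set_option maxRecDepth 100000

namespace CfsgLib.InvChar.SporHN

open CfsgLib.InvChar.Coset

theorem kChecked8 : kList8.Checked ⟨1408, 3, derPerm8⟩ (pack4 0 904 829 621) where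
  hroot := by decide +kernel
  elems j hj := by
    have hj : j < 30720 := hj
    rcases Nat.lt_or_ge j 6000 with h0 | h0
    · exact kList8.chkElems_get _ _ 6000 0 kChk8_0 j (by omega) (by omega)
    rcases Nat.lt_or_ge j 12000 with h1 | h1
    · exact kList8.chkElems_get _ _ 6000 6000 kChk8_1 j (by omega) (by omega)
    rcases Nat.lt_or_ge j 18000 with h2 | h2
    · exact kList8.chkElems_get _ _ 6000 12000 kChk8_2 j (by omega) (by omega)
    rcases Nat.lt_or_ge j 24000 with h3 | h3
    · exact kList8.chkElems_get _ _ 6000 18000 kChk8_3 j (by omega) (by omega)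
    rcases Nat.lt_or_ge j 30000 with h4 | h4
    · exact kList8.chkElems_get _ _ 6000 24000 kChk8_4 j (by omega) (by omega)
    rcases Nat.lt_or_ge j 30720 with h5 | h5
    · exact kList8.chkElems_get _ _ 720 30000 kChk8_5 j (by omega) (by omega)
    omega

end CfsgLib.InvChar.SporHN
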